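import Groth.Agent.FlatMisc.GenericFibreRed
import Groth.Prelude.Def_Cyc

set_option autoImplicit false
set_option backward.isDefEq.respectTransparency false
universe u
open CategoryTheory CategoryTheory.Limits AlgebraicGeometry

namespace Groth.Agent.CycFibreInt

theorem main {X S Z : Scheme.{u}} (f : X ⟶ S) (z : X) (hz : closure {f z} ∈ irreducibleComponents ↥S)
    (ι : Z ⟶ X) [IsClosedImmersion ι] [IsReduced Z] (hZ : Set.range ι = closure {z}) :
    IsIntegral (pullback (ι ≫ f) (S.fromSpecResidueField (f z))) ∧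
      ∃ w : ↥(pullback f (S.fromSpecResidueField (f z))), pullback.fst f (S.fromSpecResidueField (f z)) w = z ∧
        Set.range (pullback.map (ι ≫ f) (S.fromSpecResidueField (f z)) f (S.fromSpecResidueField (f z)) ι
          (𝟙 _) (𝟙 S) (Category.comp_id _) ((Category.comp_id _).trans (Category.id_comp _).symm)) = closure {w} := by
  obtain ⟨ξ, hξ⟩ : z ∈ Set.range ι := hZ ▸ subset_closure rfl
  have hξd : ∀ x : Z, ξ ⤳ x := by
    intro x
    rw [ι.isClosedEmbedding.isInducing.specializes_iff.symm, specializes_iff_mem_closure, hξ, ← hZ]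
    exact Set.mem_range_self x
  have hη : ∀ w : S, w ⤳ f z → w = f z := by
    intro w hw
    have h1 : closure {f z} ⊆ closure {w} :=
      (isClosed_closure.closure_subset_iff).2 (Set.singleton_subset_iff.2 hw.mem_closure)
    have h2 := hz.2 isIrreducible_singleton.closure h1
    exact hw.antisymm (specializes_iff_mem_closure.2 (h2 (subset_closure rfl))) |>.eq
  have hξη : (ι ≫ f) ξ = f z := by simp [hξ]
  haveI hred : IsReduced ((ι ≫ f).fiber (f z)) := FlatMisc.isReduced_fiber_of_generic (ι ≫ f) (f z) hη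
  set ξ' : ↥((ι ≫ f).fiber (f z)) := ((ι ≫ f).fiberHomeo (f z)).symm ⟨ξ, hξη⟩ with hξ'def
  have hξ' : (ι ≫ f).fiberι (f z) ξ' = ξ := Scheme.Hom.fiberι_fiberHomeo_symm _ _ _
  have hd : ∀ x, ξ' ⤳ x := fun x => by
    rw [((ι ≫ f).fiberι (f z)).isEmbedding.isInducing.specializes_iff.symm, hξ']
    exact hξd _
  haveI : IrreducibleSpace ↥((ι ≫ f).fiber (f z)) := by
    have h : IsIrreducible (Set.univ : Set ↥((ι ≫ f).fiber (f z))) := by
      have : closure ({ξ'} : Set ↥((ι ≫ f).fiber (f z))) = Set.univ :=
        Set.eq_univ_of_forall fun x => (hd x).mem_closure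
      rw [← this]; exact isIrreducible_singleton.closure
    exact (irreducibleSpace_def _).2 h
  set m := pullback.map (ι ≫ f) (S.fromSpecResidueField (f z)) f (S.fromSpecResidueField (f z)) ι
    (𝟙 _) (𝟙 S) (Category.comp_id _) ((Category.comp_id _).trans (Category.id_comp _).symm) with hm
  have hsq : IsPullback m (pullback.fst (ι ≫ f) _) (pullback.fst f (S.fromSpecResidueField (f z))) ι := by
    refine IsPullback.of_right ?_ (by simp [hm]) (IsPullback.of_hasPullback f _).flip
    simpa [hm] using (IsPullback.of_hasPullback (ι ≫ f) (S.fromSpecResidueField (f z))).flip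
  haveI : IsClosedImmersion m :=
    MorphismProperty.of_isPullback (P := @IsClosedImmersion) hsq.flip inferInstance
  refine ⟨show IsIntegral ((ι ≫ f).fiber (f z)) from isIntegral_of_irreducibleSpace_of_isReduced _, m ξ', ?_, ?_⟩
  · rw [← Scheme.Hom.comp_apply, show m ≫ pullback.fst f _ = pullback.fst (ι ≫ f) _ ≫ ι from hsq.w,
      Scheme.Hom.comp_apply, show pullback.fst (ι ≫ f) _ ξ' = ξ from hξ', hξ]
  · refine subset_antisymm ?_ ((m.isClosedEmbedding.isClosed_range).closure_subset_iff.2
      (Set.singleton_subset_iff.2 ⟨ξ', rfl⟩))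
    rintro _ ⟨x, rfl⟩
    exact ((hd x).map m.continuous).mem_closure

end Groth.Agent.CycFibreInt
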